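import Groth.Agent.VBLib.CommPair
import Groth.Agent.VBLib.GenusOneTwo

/-!
# Invariant subobjects and quotients of pairs on regular curves
-/

set_option autoImplicit false
set_option backward.isDefEq.respectTransparency false
set_option linter.style.haveILetI false
set_option linter.unusedSectionVars false

universe u

open CategoryTheory CategoryTheory.Limits AlgebraicGeometry TopologicalSpace
open Groth.Agent.PullbackMod Groth.Agent.DevLib Groth.Agent.QCohLib
open Groth.Agent.VBLib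

noncomputable section

namespace Groth.Agent.HiggsFiltLib

variable (k : Type u) [Field k] {X : Scheme.{u}} [X.Over (Spec (CommRingCat.of k))]
  [IsProper (X ↘ Spec (CommRingCat.of k))] [IsIntegral X] [IsNoetherian X] [IsRegCurve X]

attribute [local irreducible] dg grk

variable {L : X.Modules}

theorem mono_tensR_map (hL : PicF.IsInvertible L) {A B : X.Modules} (f : A ⟶ B) [Mono f] :
    Mono ((CurveLib.tensR L).map f) :=
  CurveLib.mono_tmap f (CurveLib.freeAt_one_of_isInvertible hL)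

theorem shortExact_ker {A B : X.Modules} (g : A ⟶ B) [Epi g] :
    (ShortComplex.mk (kernel.ι g) g (kernel.condition g)).ShortExact :=
  ShortComplex.ShortExact.mk' (ShortComplex.exact_of_f_is_kernel _ (kernelIsKernel g)) inferInstance inferInstance

/-- The kernel of `g` is invariant when the pair map followed by `g` vanishes on it. -/
theorem inv_kernel (hL : PicF.IsInvertible L) {A B : X.Modules} (φ : A ⟶ CohB1.tensorMod A L) (g : A ⟶ B) [Epi g]
    (h : (kernel.ι g ≫ φ) ≫ (CurveLib.tensR L).map g = 0) : Inv φ (kernel.ι g) := by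
  have hS := CurveLib.shortExact_tensR (shortExact_ker g) (CurveLib.freeAt_one_of_isInvertible hL)
  haveI := hS.mono_f
  exact ⟨hS.exact.lift (kernel.ι g ≫ φ) h, hS.exact.lift_f _ _⟩

theorem Inv.comp {A E G : X.Modules} {φ : A ⟶ CohB1.tensorMod A L} {ψ : E ⟶ CohB1.tensorMod E L} {a : A ⟶ E}
    (ha : φ ≫ (CurveLib.tensR L).map a = a ≫ ψ) {j : G ⟶ A} (hj : Inv φ j) : Inv ψ (j ≫ a) := by
  obtain ⟨χ, hχ⟩ := hj
  exact ⟨χ, by rw [Functor.map_comp, reassoc_of% hχ, ha, Category.assoc]⟩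

include k in
/-- A map from a module of generic rank zero to a locally free module vanishes. -/
theorem hom_torsion_eq_zero {T Q : X.Modules} {n : ℕ} (hT : Coh.IsCoh T) (h0 : grk T = 0)
    (hQ : FlatMod.IsFinLocFreeOfRank n Q) (f : T ⟶ Q) : f = 0 := by
  obtain ⟨I, p, i, hi, hp, hpi, hI, hK, h1, -⟩ := exists_image k f hT (isCoh_of_rank hQ)
  haveI := hi
  rw [← hpi, (isZero_of_mono i hI hQ (by omega)).eq_of_tgt p 0, zero_comp]

theorem rank_tensR (hL : PicF.IsInvertible L) {n : ℕ} {Q : X.Modules} (hQ : FlatMod.IsFinLocFreeOfRank n Q) :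
    FlatMod.IsFinLocFreeOfRank n ((CurveLib.tensR L).obj Q) :=
  isFinLocFreeOfRank_twist hQ hL

theorem rank_of_iso {M N : X.Modules} (e : M ≅ N) {n : ℕ} (hM : FlatMod.IsFinLocFreeOfRank n M) :
    FlatMod.IsFinLocFreeOfRank n N := fun x => by
  obtain ⟨U, hx, ⟨f⟩⟩ := hM x
  exact ⟨U, hx, ⟨(Scheme.Modules.restrictFunctor U.ι).mapIso e.symm ≪≫ f⟩⟩

variable {E : X.Modules} {r : ℕ} {d : ℤ}

/-- All invariant coherent submodules have slope at most `d / r`. -/
def InvLE (φ : E ⟶ CohB1.tensorMod E L) (d : ℤ) (r : ℕ) : Prop :=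
  ∀ (G : X.Modules) (j : G ⟶ E), Mono j → Coh.IsCoh G → Inv φ j → dg k G * (r : ℤ) ≤ d * (grk G : ℤ)

theorem invLE_of (hE : FlatMod.IsFinLocFreeOfRank r E) (φ : E ⟶ CohB1.tensorMod E L) {d : ℤ}
    (h : ∀ (G : X.Modules) (s : ℕ) (j : G ⟶ E) (χ : G ⟶ CohB1.tensorMod G L), Mono j → 0 < s →
        FlatMod.IsFinLocFreeOfRank s G → χ ≫ (CurveLib.tensR L).map j = j ≫ φ →
        Curv2.deg k X G s * (r : ℤ) ≤ d * (s : ℤ)) : InvLE k φ d r := by
  intro G j hj hG ⟨χ, hχ⟩
  haveI := hj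
  rcases Nat.eq_zero_or_pos (grk G) with h0 | h0
  · rw [(dg_isZero k (isZero_of_mono j hG hE h0)).2, h0]
    simp
  have hr := rank_of_mono j hG hE
  rw [dg_eq k hr]
  exact h G (grk G) j χ hj h0 hr hχ

section Step

variable {φ : E ⟶ CohB1.tensorMod E L} {A B : X.Modules} {ψA : A ⟶ CohB1.tensorMod A L}
  {ψB : B ⟶ CohB1.tensorMod B L} {a : A ⟶ B} {ιB : B ⟶ E} {n m : ℕ}

variable (hdim : topologicalKrullDim X ≤ 1)

include hdim in
/-- The quotient of two invariant steps of slope `d / r`. -/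
theorem quot_step (hL : PicF.IsInvertible L) (hr : 0 < r) (hA : FlatMod.IsFinLocFreeOfRank n A)
    (hB : FlatMod.IsFinLocFreeOfRank m B) [Mono a] [Mono ιB]
    (hψB : ψB ≫ (CurveLib.tensR L).map ιB = ιB ≫ φ) (hψA : ψA ≫ (CurveLib.tensR L).map (a ≫ ιB) = (a ≫ ιB) ≫ φ)
    (hss : InvLE k φ d r) (hdA : dg k A * r = d * n) (hdB : dg k B * r = d * m) :
    n ≤ m ∧ FlatMod.IsFinLocFreeOfRank (m - n) (cokernel a) ∧ dg k (cokernel a) * r = d * ((m - n : ℕ) : ℤ) ∧
      ∀ (φ' : cokernel a ⟶ CohB1.tensorMod (cokernel a) L),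
        cokernel.π a ≫ φ' = ψB ≫ (CurveLib.tensR L).map (cokernel.π a) →
        ∀ (G : X.Modules) (j : G ⟶ cokernel a), Mono j → Coh.IsCoh G → Inv φ' j →
          dg k G * (r : ℤ) ≤ d * (grk G : ℤ) := by
  let F := CurveLib.tensR L
  have hAc := isCoh_of_rank hA
  have hBc := isCoh_of_rank hB
  obtain ⟨hC, hgC, hdC⟩ := coker_add k a hAc hBc
  rw [grk_of_rank hA, grk_of_rank hB] at hgC
  have hr' : (0 : ℤ) < r := by exact_mod_cast hr
  -- slopes of kernels
  have key : ∀ {Y : X.Modules} (g : B ⟶ Y) [Epi g], Coh.IsCoh Y → (kernel.ι g ≫ ψB) ≫ F.map g = 0 →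
      (dg k B - dg k Y) * r ≤ d * ((m : ℤ) - grk Y) := by
    intro Y g _ hY hz
    obtain ⟨hK, h1, h2⟩ := kernel_add k g hBc hY
    have h := hss _ (kernel.ι g ≫ ιB) (mono_comp _ _) hK (Inv.comp hψB (inv_kernel hL ψB g hz))
    rw [grk_of_rank hB] at h1
    have e1 : dg k B - dg k Y = dg k (kernel g) := by omega
    have e2 : ((m : ℤ) - grk Y) = grk (kernel g) := by omega
    rw [e1, e2]
    exact h
  haveI := mono_tensR_map hL ιB
  have hint : ψA ≫ F.map a = a ≫ ψB := by
    refine (cancel_mono (F.map ιB)).1 ?_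
    rw [Category.assoc, ← Functor.map_comp, hψA, Category.assoc, Category.assoc, hψB]
  have hzero : a ≫ ψB ≫ F.map (cokernel.π a) = 0 := by
    rw [← reassoc_of% hint, ← Functor.map_comp, cokernel.condition, Functor.map_zero, comp_zero]
  let φ₀ : cokernel a ⟶ F.obj (cokernel a) := cokernel.desc a (ψB ≫ F.map (cokernel.π a)) hzero
  obtain ⟨Q, q, hq, hQc, hQ, hQg, hQd⟩ := exists_freeQuot k hdim hC
  haveI := hq
  obtain ⟨hT, hT1, hT2⟩ := kernel_add k q hC hQc
  have hlift : (kernel.ι (cokernel.π a ≫ q) ≫ cokernel.π a) ≫ q = 0 := by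
    rw [Category.assoc, kernel.condition]
  have hz : (kernel.ι (cokernel.π a ≫ q) ≫ ψB) ≫ F.map (cokernel.π a ≫ q) = 0 := by
    have h2 : kernel.ι q ≫ φ₀ ≫ F.map q = 0 :=
      hom_torsion_eq_zero k hT (by omega) (rank_tensR hL hQ) _
    calc (kernel.ι (cokernel.π a ≫ q) ≫ ψB) ≫ F.map (cokernel.π a ≫ q)
        = (kernel.ι (cokernel.π a ≫ q) ≫ cokernel.π a) ≫ φ₀ ≫ F.map q := by
          rw [Functor.map_comp]
          simp [φ₀]
      _ = kernel.lift q _ hlift ≫ kernel.ι q ≫ φ₀ ≫ F.map q := by rw [kernel.lift_ι_assoc]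
      _ = 0 := by rw [h2, comp_zero]
  have h0 := key (cokernel.π a ≫ q) hQc hz
  have hTd := dg_nonneg k hdim hT (by omega)
  have hT0 : dg k (kernel q) = 0 := by
    have e : (m : ℤ) - grk Q = n := by omega
    rw [e] at h0
    have e' : dg k B - dg k Q = dg k A + dg k (kernel q) := by omega
    rw [e', add_mul, hdA] at h0
    nlinarith
  haveI : Mono q := Preadditive.mono_of_isZero_kernel q (isZero_of_dg_eq_zero k hdim hT (by omega) hT0)
  haveI : IsIso q := isIso_of_mono_of_epi q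
  have hCr : FlatMod.IsFinLocFreeOfRank (m - n) (cokernel a) := by
    have e : m - n = grk Q := by omega
    rw [e]
    exact rank_of_iso (asIso q).symm hQ
  refine ⟨by omega, hCr, ?_, ?_⟩
  · have e : ((m - n : ℕ) : ℤ) = (m : ℤ) - n := by omega
    rw [e, mul_sub, ← hdA, ← hdB, ← sub_mul]
    exact congrArg (· * (r : ℤ)) (by omega)
  intro φ' hφ' G j hj hG ⟨χ, hχ⟩
  haveI := hj
  obtain ⟨hQ', hg', hd'⟩ := coker_add k j hG hC
  have hlift' : (kernel.ι (cokernel.π a ≫ cokernel.π j) ≫ cokernel.π a) ≫ cokernel.π j = 0 := by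
    rw [Category.assoc, kernel.condition]
  have hz' : (kernel.ι (cokernel.π a ≫ cokernel.π j) ≫ ψB) ≫ F.map (cokernel.π a ≫ cokernel.π j) = 0 := by
    have hS := cokerSeq_shortExact j
    haveI := hS.mono_f
    let l : kernel (cokernel.π a ≫ cokernel.π j) ⟶ G := hS.exact.lift _ hlift'
    have hl : l ≫ j = kernel.ι (cokernel.π a ≫ cokernel.π j) ≫ cokernel.π a := hS.exact.lift_f _ hlift'
    calc (kernel.ι (cokernel.π a ≫ cokernel.π j) ≫ ψB) ≫ F.map (cokernel.π a ≫ cokernel.π j)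
        = (kernel.ι (cokernel.π a ≫ cokernel.π j) ≫ cokernel.π a) ≫ φ' ≫ F.map (cokernel.π j) := by
          rw [Functor.map_comp]
          simp only [Category.assoc, reassoc_of% hφ']
          rfl
      _ = l ≫ χ ≫ F.map (j ≫ cokernel.π j) := by
          rw [← hl, Category.assoc, ← reassoc_of% hχ, Functor.map_comp]
      _ = 0 := by rw [cokernel.condition, Functor.map_zero, comp_zero, comp_zero]
  have h1 := key (cokernel.π a ≫ cokernel.π j) hQ' hz'
  have e1 : dg k B - dg k (cokernel j) = dg k A + dg k G := by omega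
  have e2 : (m : ℤ) - grk (cokernel j) = (n : ℤ) + grk G := by omega
  rw [e1, e2, add_mul, mul_add, hdA] at h1
  linarith

end Step

end Groth.Agent.HiggsFiltLib
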